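import Cfsg.Agent.Lib.Helper51.Zass.AsmFull
import Cfsg.Agent.Lib.Helper32.Zass.Lin
import Cfsg.Agent.Lib.Helper62.Zass.UI
import Cfsg.Agent.Lib.Helper62.Zass.Comm3
import Cfsg.Agent.Lib.Helper46.Zass.Conj
import Cfsg.Agent.Lib.Helper59.Zass.RL
import Cfsg.Agent.Lib.Helper39.Zass.DKF
import Cfsg.Agent.Lib.Helper27.Zass.Pair
import Cfsg.Agent.Lib.Helper27.Zass.T1Defs
import Cfsg.Agent.Lib.Helper82.Zass.T1F
import Cfsg.Agent.Lib.Helper79.Zass.Str120M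
import Cfsg.Agent.Lib.Helper61.Zass.Str120T
import Cfsg.Agent.Lib.Helper35.Zass.PkgSRG
import Cfsg.Agent.Lib.Helper3.Zass.ZhDefs
import Cfsg.Agent.Lib.Helper3.Zass.ZhSmall
import Cfsg.Agent.Lib.Helper97.Zass.ZhGeo
import Cfsg.Agent.Lib.Helper97.Zass.ZhBig
import Cfsg.Agent.Lib.Helper63.Zass.FinA
import Cfsg.Agent.Lib.Helper63.Zass.FinB
import Cfsg.Agent.Lib.Helper45.Zass.FinCDefs
import Cfsg.Agent.Lib.Helper15.Zass.FinC2

/-!
# Project ZASS (S0690): the assembly of all landed packages; the only open inputs are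
[T1-K], [T1-R], [STR24] and [FIN-C1].
-/

set_option autoImplicit false

namespace Cfsg.Agent.Lib.Helper51.Zass

universe u

/-- [FIN-C2] in helper45's interface, from helper15's `finC2`. -/
theorem pkgFinC2_of15 : Cfsg.Agent.Lib.Helper45.Zass.PkgFinC2.{u} := by
  intro G _ _ hui H hH hT
  subst hT
  exact Cfsg.Agent.Lib.Helper15.Zass.finC2 G hui hH

/-- S0690 from the four packages that are still open (all others are on main). -/
theorem s0690_final (hT1K : Cfsg.Agent.Lib.Helper27.Zass.PkgT1K.{u})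
    (hT1R : Cfsg.Agent.Lib.Helper27.Zass.PkgT1R.{u}) (h24 : PkgStr24.{u})
    (hFinC1 : Cfsg.Agent.Lib.Helper45.Zass.PkgFinC1.{u})
    {K : Type u} [Group K] [Finite K] (G : Subgroup (MulAut K))
    (hfpf : ∀ φ ∈ G, φ ≠ 1 → ∀ k : K, φ k = k → k = 1) (hperf : commutator G = ⊤)
    (hne : G ≠ ⊥) : Nonempty (G ≃* Matrix.SpecialLinearGroup (Fin 2) (ZMod 5)) := by
  have hUI : PkgUI.{u} := Cfsg.Agent.Lib.Helper62.Zass.pkgUI
  have hConj : PkgConj.{u} :=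
    Cfsg.Agent.Lib.Helper46.Zass.pkgConj Cfsg.Agent.Lib.Helper62.Zass.pkgComm3
  have h120 : PkgStr120.{u} :=
    Cfsg.Agent.Lib.Helper61.Zass.pkgStr120T Cfsg.Agent.Lib.Helper79.Zass.pkgStr120M
  exact s0690_full Cfsg.Agent.Lib.Helper32.Zass.pkgLin hUI hConj
    Cfsg.Agent.Lib.Helper59.Zass.pkgRL Cfsg.Agent.Lib.Helper39.Zass.pkgDKF
    (fun hE => Cfsg.Agent.Lib.Helper27.Zass.pkgPair hE)
    (fun hE hU => Cfsg.Agent.Lib.Helper27.Zass.pkgT1_of hT1K hT1R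
      Cfsg.Agent.Lib.Helper82.Zass.pkgT1F hE hU)
    h24 h120 Cfsg.Agent.Lib.Helper35.Zass.pkgSRG
    (fun hP hT h24' h120' hU hC _ =>
      Cfsg.Agent.Lib.Helper3.Zass.pkgZh_of
        (Cfsg.Agent.Lib.Helper97.Zass.pkgZhGeo hP hT h24' h120' hU hC)
        Cfsg.Agent.Lib.Helper97.Zass.pkgZhBig' Cfsg.Agent.Lib.Helper3.Zass.pkgZhSmall)
    Cfsg.Agent.Lib.Helper63.Zass.pkgFinA'
    (Cfsg.Agent.Lib.Helper63.Zass.pkgFinB h24 hUI)
    (Cfsg.Agent.Lib.Helper45.Zass.pkgFinC_of hUI hFinC1 pkgFinC2_of15)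
    G hfpf hperf hne

end Cfsg.Agent.Lib.Helper51.Zass
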